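import Mathlib
import Cfsg.Prelude.Def_CaseTheorems
import Cfsg.Agent.S0483
import Cfsg.Agent.S0992
import Cfsg.Agent.S0811
import Cfsg.Agent.S0812
import Cfsg.Agent.Lib.Cores

/-!
# Simple groups of even order not divisible by 8
-/

set_option autoImplicit false

namespace Cfsg.Agent.H483.SylFour

open Cfsg Cfsg.Agent.Lib.Cores
open scoped commutatorElement

theorem isPerfect_of_simple {G : Type*} [Group G] [IsSimpleGroup G] (hG : ¬ IsMulCommutative G) :
    Group.IsPerfect G := by
  rw [Group.isPerfect_def]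
  rcases (inferInstance : (commutator G).Normal).eq_bot_or_eq_top with h | h
  · exfalso
    apply hG
    refine ⟨⟨fun a b => ?_⟩⟩
    have h1 : ⁅a, b⁆ ∈ commutator G := Subgroup.commutator_mem_commutator (Subgroup.mem_top _) (Subgroup.mem_top _)
    rw [h, Subgroup.mem_bot, commutatorElement_eq_one_iff_mul_comm] at h1
    exact h1
  · exact h

theorem oddCore_eq_bot {G : Type*} [Group G] [Finite G] [IsSimpleGroup G] (h2 : Even (Nat.card G)) :
    oddCore G = ⊥ := by
  have hn : (oddCore G).Normal := Cfsg.Agent.Lib.Cores.pPrimeCore_normal 2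
  rcases hn.eq_bot_or_eq_top with h | h
  · exact h
  · exfalso
    have h1 := (pPrimeCore_eq_top_iff (G := G) 2).1 h
    have h3 := Nat.Coprime.eq_one_of_dvd h1.symm h2.two_dvd
    omega

/-- A non-abelian finite simple group of even order not divisible by `8` is `PSL(2, q)`, `q > 3` odd. -/
theorem exists_psl {G : Type*} [Group G] [Finite G] [IsSimpleGroup G] (hG : ¬ IsMulCommutative G)
    (h2 : Even (Nat.card G)) (h8 : ¬ 8 ∣ Nat.card G) :
    ∃ (F : Type) (_ : Field F) (_ : Fintype F), Odd (Fintype.card F) ∧ 3 < Fintype.card F ∧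
      Nonempty (G ≃* Matrix.ProjectiveSpecialLinearGroup (Fin 2) F) := by
  obtain ⟨T⟩ := (inferInstance : Nonempty (Sylow 2 G))
  obtain ⟨hK, -⟩ := Cfsg.Agent.S0992.result hG h2 h8 T
  have hperf : Group.IsPerfect G := isPerfect_of_simple hG
  have hK2 : IsKleinFour (DihedralGroup 2) := inferInstance
  have hiso : Nonempty ((T : Subgroup G) ≃* DihedralGroup 2) := IsKleinFour.nonempty_mulEquiv
  have hcore := oddCore_eq_bot (G := G) h2
  have hinj : Function.Injective (QuotientGroup.mk' (oddCore G)) := by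
    rw [← MonoidHom.ker_eq_bot_iff, QuotientGroup.ker_mk', hcore]
  let φ : G ≃* G ⧸ oddCore G :=
    MulEquiv.ofBijective (QuotientGroup.mk' (oddCore G)) ⟨hinj, QuotientGroup.mk'_surjective _⟩
  rcases Cfsg.Agent.S0483.result T 2 le_rfl hiso with ⟨F, i1, i2, hodd, h3, ⟨e⟩⟩ | hA
  · exact ⟨F, i1, i2, hodd, h3, ⟨φ.trans e⟩⟩
  · exfalso
    obtain ⟨e⟩ := hA
    apply h8
    have h1 : Nat.card G = Nat.card (alternatingGroup (Fin 7)) := Nat.card_congr (φ.trans e).toEquiv
    have h4 : 2 * Nat.card (alternatingGroup (Fin 7)) = (7 : ℕ).factorial := by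
      rw [two_mul_nat_card_alternatingGroup, Nat.card_perm, Nat.card_fin]
    have h5 : (7 : ℕ).factorial = 5040 := by decide
    rw [h5] at h4
    rw [h1]
    exact ⟨315, by omega⟩

theorem card_comap_equiv {G H : Type*} [Group G] [Group H] (e : G ≃* H) (K : Subgroup H) :
    Nat.card (K.comap e.toMonoidHom) = Nat.card K := by
  refine Nat.card_congr (Equiv.ofBijective (fun x : K.comap e.toMonoidHom => (⟨e x.1, x.2⟩ : K)) ⟨?_, ?_⟩)
  · intro a b hab
    have h1 := congrArg Subtype.val hab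
    exact Subtype.ext (e.injective h1)
  · intro y
    refine ⟨⟨e.symm y.1, ?_⟩, ?_⟩
    · change e (e.symm y.1) ∈ K
      rw [e.apply_symm_apply]; exact y.2
    · exact Subtype.ext (e.apply_symm_apply y.1)

/-- `PSL(2, q)`, `q` odd, has a subgroup of order `q - 1`. -/
theorem exists_card_sub_one {G : Type*} [Group G] {F : Type} [Field F] [Fintype F]
    (hodd : Odd (Fintype.card F)) (h3 : 3 < Fintype.card F)
    (e : G ≃* Matrix.ProjectiveSpecialLinearGroup (Fin 2) F) :
    ∃ H : Subgroup G, Nat.card H = Fintype.card F - 1 := by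
  obtain ⟨f⟩ := Cfsg.Agent.S0812.nonempty_mulEquiv_pmono (F := F) rfl
  refine ⟨(Cfsg.Agent.S0812.pmono F).comap e.toMonoidHom, ?_⟩
  rw [card_comap_equiv, Nat.card_congr f.toEquiv, DihedralGroup.nat_card]
  obtain ⟨k, hk⟩ := hodd
  have hg : Nat.gcd 2 (Fintype.card F - 1) = 2 := by
    apply Nat.gcd_eq_left
    omega
  rw [hg]
  omega

/-- `PSL(2, q)`, `q` odd, `q ≠ 7, 9`, has a subgroup of order `q + 1`. -/
theorem exists_card_add_one {G : Type*} [Group G] {F : Type} [Field F] [Fintype F]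
    (hodd : Odd (Fintype.card F)) (h3 : 3 < Fintype.card F) (h7 : Fintype.card F ≠ 7)
    (h9 : Fintype.card F ≠ 9)
    (e : G ≃* Matrix.ProjectiveSpecialLinearGroup (Fin 2) F) :
    ∃ H : Subgroup G, Nat.card H = Fintype.card F + 1 := by
  obtain ⟨H, -, ⟨f⟩⟩ := Cfsg.Agent.S0811.result (F := F) rfl
    (by simp only [Finset.mem_insert, Finset.mem_singleton]; omega)
  refine ⟨H.comap e.toMonoidHom, ?_⟩
  rw [card_comap_equiv, Nat.card_congr f.toEquiv, DihedralGroup.nat_card]
  obtain ⟨k, hk⟩ := hodd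
  have hg : Nat.gcd 2 (Fintype.card F - 1) = 2 := by
    apply Nat.gcd_eq_left
    omega
  rw [hg]
  omega

end Cfsg.Agent.H483.SylFour
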