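import Mathlib
import Cfsg.Agent.H483.SeqLaw

/-!
# The words `s_n` do not vanish on `PSL(3, 3)`
-/

set_option autoImplicit false

namespace Cfsg.Agent.H483.LawPSLThree

open Cfsg.Agent.H483.SeqLaw Matrix

def mX : Matrix (Fin 3) (Fin 3) (ZMod 3) := !![0, 1, 2; 2, 0, 0; 1, 0, 1]
def mY : Matrix (Fin 3) (Fin 3) (ZMod 3) := !![2, 1, 0; 2, 0, 0; 2, 2, 1]
def mXi : Matrix (Fin 3) (Fin 3) (ZMod 3) := !![0, 2, 0; 1, 1, 1; 0, 1, 1]
def mYi : Matrix (Fin 3) (Fin 3) (ZMod 3) := !![0, 2, 0; 1, 2, 0; 1, 1, 1]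
def mA : Matrix (Fin 3) (Fin 3) (ZMod 3) := !![0, 1, 1; 2, 1, 0; 2, 1, 1]
def mAi : Matrix (Fin 3) (Fin 3) (ZMod 3) := !![1, 0, 2; 1, 1, 2; 0, 2, 1]
def mB : Matrix (Fin 3) (Fin 3) (ZMod 3) := !![0, 0, 2; 1, 2, 1; 2, 0, 1]
def mBi : Matrix (Fin 3) (Fin 3) (ZMod 3) := !![2, 0, 2; 1, 2, 2; 2, 0, 0]

def eX : Matrix.SpecialLinearGroup (Fin 3) (ZMod 3) := ⟨mX, by rw [Matrix.det_fin_three]; decide⟩
def eY : Matrix.SpecialLinearGroup (Fin 3) (ZMod 3) := ⟨mY, by rw [Matrix.det_fin_three]; decide⟩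
def eXi : Matrix.SpecialLinearGroup (Fin 3) (ZMod 3) := ⟨mXi, by rw [Matrix.det_fin_three]; decide⟩
def eYi : Matrix.SpecialLinearGroup (Fin 3) (ZMod 3) := ⟨mYi, by rw [Matrix.det_fin_three]; decide⟩
def eA : Matrix.SpecialLinearGroup (Fin 3) (ZMod 3) := ⟨mA, by rw [Matrix.det_fin_three]; decide⟩
def eB : Matrix.SpecialLinearGroup (Fin 3) (ZMod 3) := ⟨mB, by rw [Matrix.det_fin_three]; decide⟩
def eAi : Matrix.SpecialLinearGroup (Fin 3) (ZMod 3) := ⟨mAi, by rw [Matrix.det_fin_three]; decide⟩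
def eBi : Matrix.SpecialLinearGroup (Fin 3) (ZMod 3) := ⟨mBi, by rw [Matrix.det_fin_three]; decide⟩

theorem inv_eY : (eY)⁻¹ = eYi := by
  rw [inv_eq_iff_mul_eq_one]
  apply Subtype.ext
  show mY * mYi = 1
  decide

theorem inv_eX : (eX)⁻¹ = eXi := by
  rw [inv_eq_iff_mul_eq_one]
  apply Subtype.ext
  show mX * mXi = 1
  decide

theorem inv_eA : (eA)⁻¹ = eAi := by
  rw [inv_eq_iff_mul_eq_one]
  apply Subtype.ext
  show mA * mAi = 1
  decide

theorem inv_eB : (eB)⁻¹ = eBi := by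
  rw [inv_eq_iff_mul_eq_one]
  apply Subtype.ext
  show mB * mBi = 1
  decide

theorem stp_eX : stp eY eX = eA := by
  rw [stp_eq, inv_eX, inv_eY]
  apply Subtype.ext
  show mYi * (mX * mY * mXi) * mYi * (mXi * mY * mX) = mA
  decide

theorem stp_eA : stp eY eA = eB := by
  rw [stp_eq, inv_eA, inv_eY]
  apply Subtype.ext
  show mYi * (mA * mY * mAi) * mYi * (mAi * mY * mA) = mB
  decide

theorem stp_eB : stp eY eB = eX := by
  rw [stp_eq, inv_eB, inv_eY]
  apply Subtype.ext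
  show mYi * (mB * mY * mBi) * mYi * (mBi * mY * mB) = mX
  decide

theorem sn_three (k : ℕ) : sn eX eY (3 * k) = eX := by
  induction k with
  | zero => rfl
  | succ k ih =>
    have h : 3 * (k + 1) = 3 * k + 1 + 1 + 1 := by ring
    rw [h, sn_succ, sn_succ, sn_succ, ih, stp_eX, stp_eA, stp_eB]

theorem not_law {F : Type*} [Field F] [Fintype F] (hF : Fintype.card F = 3) :
    ¬ Law (Matrix.ProjectiveSpecialLinearGroup (Fin 3) F) := by
  have hchar : CharP F 3 := by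
    have h30 : (3 : F) = 0 := by
      have := FiniteField.cast_card_eq_zero F
      rw [hF] at this
      exact_mod_cast this
    have h := ringChar.charP F
    have hd : ringChar F ∣ 3 := (ringChar.spec F 3).1 (by exact_mod_cast h30)
    rcases (Nat.dvd_prime Nat.prime_three).1 hd with h1 | h1
    · exact absurd h1 (CharP.ringChar_ne_one)
    · rw [← h1]; exact h
  let f : ZMod 3 →+* F := ZMod.castHom (dvd_refl 3) F
  let φ : Matrix.SpecialLinearGroup (Fin 3) (ZMod 3) →* Matrix.ProjectiveSpecialLinearGroup (Fin 3) F :=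
    (QuotientGroup.mk' _).comp (Matrix.SpecialLinearGroup.map f)
  have hX : φ eX ≠ 1 := by
    intro h
    have h1 := (QuotientGroup.eq_one_iff _).1 h
    rw [Matrix.SpecialLinearGroup.mem_center_iff] at h1
    obtain ⟨r, -, hr⟩ := h1
    have h2 := congrFun (congrFun hr 0) 1
    have h3 : ((Matrix.SpecialLinearGroup.map f) eX).1 0 1 = f 1 := rfl
    have h4 : (Matrix.scalar (Fin 3) r) 0 1 = 0 := by simp
    rw [h4] at h2
    have h5 : (0 : F) = f 1 := h2.trans h3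
    rw [map_one] at h5
    exact zero_ne_one h5
  rintro ⟨n, hn⟩
  apply hX
  have h1 := sn_one_of_le (hn (φ eX) (φ eY)) (show n ≤ 3 * n by omega)
  rw [← map_sn, sn_three] at h1
  exact h1

end Cfsg.Agent.H483.LawPSLThree
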