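import Mathlib
import Cfsg.Agent.H483.SeqLaw

/-!
# The words `s_n` in groups with a rank one structure in characteristic two

`Data`: a "root group" `z : F → Γ` (`F` a field of characteristic 2), an involution `w`, a torus `T` inverted by `w`,
with `w z(μ) w = v⁻¹ (w d) v` for `v` centralizing the root group and `d` in the torus. Then the words `s_n(w z(b), z(1))`
never vanish when `b ≠ 0, 1`.
-/

set_option autoImplicit false

namespace Cfsg.Agent.H483.RankOneTwo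

open Cfsg.Agent.H483.SeqLaw

structure Data (Γ F : Type*) [Group Γ] [Field F] where
  z : F → Γ
  w : Γ
  T : Γ → Prop
  two : (2 : F) = 0
  z_add : ∀ a b, z (a + b) = z a * z b
  w_mul_w : w * w = 1
  one_mem : T 1
  w_conj : ∀ d, T d → w * d * w = d⁻¹
  T_conj : ∀ d, T d → ∃ κ : F, κ ≠ 0 ∧ ∀ a, d * z a * d⁻¹ = z (κ * a)
  key : ∀ μ : F, μ ≠ 0 → ∃ v d, T d ∧ (∀ a, v * z a = z a * v) ∧ w * z μ * w = v⁻¹ * (w * d) * v
  ne : ∀ d a, T d → w * d * z a ≠ 1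

variable {Γ F : Type*} [Group Γ] [Field F] (D : Data Γ F)

namespace Data

include D

theorem z_zero : D.z 0 = 1 := by
  have h := D.z_add 0 0
  rw [add_zero] at h
  exact (left_eq_mul.1 h)

theorem add_self (a : F) : a + a = 0 := by linear_combination a * D.two

theorem z_mul_self (a : F) : D.z a * D.z a = 1 := by
  rw [← D.z_add, D.add_self, D.z_zero]

theorem z_inv (a : F) : (D.z a)⁻¹ = D.z a := inv_eq_of_mul_eq_one_right (D.z_mul_self a)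

theorem z_comm (a b : F) : D.z a * D.z b = D.z b * D.z a := by
  rw [← D.z_add, ← D.z_add, add_comm]

theorem w_inv : (D.w)⁻¹ = D.w := inv_eq_of_mul_eq_one_right D.w_mul_w

theorem step {d : Γ} (hd : D.T d) {b : F} (hb : b ≠ 1) :
    ∃ c d', D.T d' ∧ (∀ a, c * D.z a = D.z a * c) ∧
      stp (D.z 1) (D.w * d * D.z b) = c * (D.w * d' * D.z (b + 1)) * c⁻¹ := by
  obtain ⟨κ, hκ, hκc⟩ := D.T_conj d hd
  obtain ⟨v, d₁, hd₁, hv, hv'⟩ := D.key κ hκ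
  obtain ⟨κ₁, hκ₁, hκ₁c⟩ := D.T_conj d₁ hd₁
  have hν : κ₁ * (1 + b) ≠ 0 := by
    refine mul_ne_zero hκ₁ ?_
    intro h
    apply hb
    linear_combination h - D.two
  obtain ⟨v₂, d₂, hd₂, hv₂, hv₂'⟩ := D.key _ hν
  have hw := D.w_mul_w
  have hwd := D.w_conj d hd
  have hwd₁ := D.w_conj d₁ hd₁
  -- `s y s⁻¹ = w z_κ w`
  have h1 : (D.w * d * D.z b) * D.z 1 * (D.w * d * D.z b)⁻¹ = D.w * D.z κ * D.w := by
    have e1 : (D.w * d * D.z b) * D.z 1 * (D.w * d * D.z b)⁻¹ =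
        D.w * (d * (D.z b * D.z 1 * (D.z b)⁻¹) * d⁻¹) * (D.w)⁻¹ := by group
    rw [e1, D.z_comm b 1, mul_inv_cancel_right, hκc, mul_one, D.w_inv]
  -- `s⁻¹ y s = z_b⁻¹ w z_κ w z_b`
  have h2 : (D.w * d * D.z b)⁻¹ * D.z 1 * (D.w * d * D.z b) =
      (D.z b)⁻¹ * (D.w * D.z κ * D.w) * D.z b := by
    have e1 : D.w * d = d⁻¹ * D.w := by
      rw [← hwd, mul_assoc (D.w * d), hw, mul_one]
    have e2 : (D.w * d)⁻¹ = D.w * d := by
      rw [mul_inv_rev, D.w_inv, ← e1]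
    calc (D.w * d * D.z b)⁻¹ * D.z 1 * (D.w * d * D.z b)
        = (D.z b)⁻¹ * ((D.w * d)⁻¹ * D.z 1 * (D.w * d)) * D.z b := by group
      _ = (D.z b)⁻¹ * ((D.w * d) * D.z 1 * (d⁻¹ * D.w)) * D.z b := by rw [e2]; rw [e1]
      _ = (D.z b)⁻¹ * (D.w * (d * D.z 1 * d⁻¹) * D.w) * D.z b := by group
      _ = _ := by rw [hκc, mul_one]
  have hz1b : (D.z 1)⁻¹ * (D.z b)⁻¹ = D.z (1 + b) := by
    rw [D.z_inv, D.z_inv, D.z_add]
  refine ⟨(D.z 1)⁻¹ * v⁻¹ * v₂⁻¹, d₂, hd₂, ?_, ?_⟩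
  · intro a
    have c1 : v⁻¹ * D.z a = D.z a * v⁻¹ := by
      have := hv a
      calc v⁻¹ * D.z a = v⁻¹ * (D.z a * v) * v⁻¹ := by group
        _ = D.z a * v⁻¹ := by rw [← this]; group
    have c2 : v₂⁻¹ * D.z a = D.z a * v₂⁻¹ := by
      have := hv₂ a
      calc v₂⁻¹ * D.z a = v₂⁻¹ * (D.z a * v₂) * v₂⁻¹ := by group
        _ = D.z a * v₂⁻¹ := by rw [← this]; group
    rw [D.z_inv]
    calc D.z 1 * v⁻¹ * v₂⁻¹ * D.z a = D.z 1 * v⁻¹ * (v₂⁻¹ * D.z a) := by group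
      _ = D.z 1 * (v⁻¹ * D.z a) * v₂⁻¹ := by rw [c2]; group
      _ = (D.z 1 * D.z a) * v⁻¹ * v₂⁻¹ := by rw [c1]; group
      _ = D.z a * (D.z 1 * v⁻¹ * v₂⁻¹) := by rw [D.z_comm 1 a]; group
  · rw [stp_eq, h1, h2, hv']
    -- combine
    have e3 : v * (D.z (1 + b)) * v⁻¹ = D.z (1 + b) := by rw [hv]; group
    have e4 : D.w * d₁ * D.z (1 + b) * (D.w * d₁) = v₂⁻¹ * (D.w * d₂) * v₂ := by
      rw [← hv₂']
      have e5 : d₁ * D.z (1 + b) = D.z (κ₁ * (1 + b)) * d₁ := by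
        rw [← hκ₁c]; group
      have e6 : d₁ * D.w * d₁ = D.w := by
        have : D.w * d₁ * D.w * d₁ = 1 := by rw [hwd₁]; group
        calc d₁ * D.w * d₁ = D.w⁻¹ * (D.w * d₁ * D.w * d₁) := by group
          _ = D.w := by rw [this, D.w_inv, mul_one]
      calc D.w * d₁ * D.z (1 + b) * (D.w * d₁) = D.w * (d₁ * D.z (1 + b)) * D.w * d₁ := by group
        _ = D.w * D.z (κ₁ * (1 + b)) * (d₁ * D.w * d₁) := by rw [e5]; group
        _ = _ := by rw [e6]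
    have e7 : v₂ * v * (D.z 1 * D.z b) = D.z 1 * D.z b * (v₂ * v) := by
      rw [← D.z_add]
      calc v₂ * v * D.z (1 + b) = v₂ * (v * D.z (1 + b)) := by group
        _ = (v₂ * D.z (1 + b)) * v := by rw [hv]; group
        _ = _ := by rw [hv₂]; group
    calc (D.z 1)⁻¹ * (v⁻¹ * (D.w * d₁) * v) * (D.z 1)⁻¹ * ((D.z b)⁻¹ * (v⁻¹ * (D.w * d₁) * v) * D.z b)
        = (D.z 1)⁻¹ * v⁻¹ * (D.w * d₁) * (v * ((D.z 1)⁻¹ * (D.z b)⁻¹) * v⁻¹) * (D.w * d₁) * v * D.z b := by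
          group
      _ = (D.z 1)⁻¹ * v⁻¹ * (D.w * d₁ * D.z (1 + b) * (D.w * d₁)) * v * D.z b := by
          rw [hz1b, e3]; group
      _ = (D.z 1)⁻¹ * v⁻¹ * v₂⁻¹ * (D.w * d₂) * (v₂ * v * D.z b) := by rw [e4]; group
      _ = (D.z 1)⁻¹ * v⁻¹ * v₂⁻¹ * (D.w * d₂ * D.z (b + 1)) *
            ((D.z 1)⁻¹ * v⁻¹ * v₂⁻¹)⁻¹ := by
          have e8 : D.z (b + 1) * ((D.z 1)⁻¹ * v⁻¹ * v₂⁻¹)⁻¹ = v₂ * v * D.z b := by
            have e9 : ((D.z 1)⁻¹ * v⁻¹ * v₂⁻¹)⁻¹ = v₂ * v * D.z 1 := by group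
            rw [e9, add_comm b 1, D.z_add, ← mul_assoc, ← e7]
            calc v₂ * v * (D.z 1 * D.z b) * D.z 1 = v₂ * v * (D.z 1 * (D.z b * D.z 1)) := by group
              _ = v₂ * v * (D.z 1 * D.z 1 * D.z b) := by rw [D.z_comm b 1]; group
              _ = v₂ * v * D.z b := by rw [D.z_mul_self, one_mul]
          rw [← e8]; group

theorem sn_eq {b : F} (hb0 : b ≠ 0) (hb1 : b ≠ 1) (n : ℕ) :
    ∃ c d, D.T d ∧ (∀ a, c * D.z a = D.z a * c) ∧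
      sn (D.w * D.z b) (D.z 1) n = c * (D.w * d * D.z (b + n)) * c⁻¹ := by
  induction n with
  | zero =>
    refine ⟨1, 1, D.one_mem, fun a => by group, ?_⟩
    rw [sn_zero, Nat.cast_zero, add_zero]
    group
  | succ n ih =>
    obtain ⟨c, d, hd, hc, h⟩ := ih
    have hbn : b + n ≠ 1 := by
      rcases Nat.even_or_odd' n with ⟨k, rfl | rfl⟩
      · intro h
        apply hb1
        push_cast at h
        linear_combination h - k * D.two
      · intro h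
        apply hb0
        push_cast at h
        linear_combination h - k * D.two
    obtain ⟨c', d', hd', hc', h'⟩ := D.step hd hbn
    refine ⟨c * c', d', hd', ?_, ?_⟩
    · intro a
      rw [mul_assoc, hc', ← mul_assoc, hc, mul_assoc]
    · rw [sn_succ, h, stp_conj (hc 1), h', Nat.cast_succ, ← add_assoc]
      group

/-- The words `s_n(w z(b), z(1))` never vanish. -/
theorem not_law {b : F} (hb0 : b ≠ 0) (hb1 : b ≠ 1) : ¬ Law Γ := by
  apply not_law_of (x := D.w * D.z b) (y := D.z 1)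
  intro n hn
  obtain ⟨c, d, hd, -, h⟩ := D.sn_eq hb0 hb1 n
  rw [h] at hn
  apply D.ne d (b + n) hd
  calc D.w * d * D.z (b + n) = c⁻¹ * (c * (D.w * d * D.z (b + n)) * c⁻¹) * c := by group
    _ = 1 := by rw [hn]; group

end Data

end Cfsg.Agent.H483.RankOneTwo
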