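import Mathlib
import Cfsg.Agent.H483.RankOneTwo

/-!
# The words `s_n` do not vanish on `PSL(2, q)`, `q ≥ 4` (characteristic two) and `q ≥ 5` odd
-/

set_option autoImplicit false
set_option linter.unusedSimpArgs false

namespace Cfsg.Agent.H483.LawPSLTwo

open Cfsg.Agent.H483.SeqLaw Cfsg.Agent.H483.RankOneTwo Matrix

variable {F : Type*} [Field F]

theorem val_mul {n : ℕ} (A B : Matrix.SpecialLinearGroup (Fin n) F) : (A * B).1 = A.1 * B.1 := rfl

theorem two_ne {A : Matrix.SpecialLinearGroup (Fin 2) F} (h : A.1 1 0 ≠ 0) :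
    (QuotientGroup.mk' (Subgroup.center (Matrix.SpecialLinearGroup (Fin 2) F)) A) ≠ 1 := by
  intro hA
  have h1 := (QuotientGroup.eq_one_iff A).1 hA
  rw [Matrix.SpecialLinearGroup.mem_center_iff] at h1
  obtain ⟨r, -, hr⟩ := h1
  apply h
  rw [← hr]
  simp

/-! ### Characteristic two -/

def eU (a : F) : Matrix.SpecialLinearGroup (Fin 2) F := ⟨!![1, a; 0, 1], by simp⟩

def eW (h2 : (2 : F) = 0) : Matrix.SpecialLinearGroup (Fin 2) F :=
  ⟨!![0, 1; 1, 0], by simp; linear_combination (-1 : F) * h2⟩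

def eD (k : Fˣ) : Matrix.SpecialLinearGroup (Fin 2) F := ⟨!![(k : F), 0; 0, (k : F)⁻¹], by simp⟩

theorem eU_val (a : F) : (eU a).1 = !![1, a; 0, 1] := rfl

theorem eW_val (h2 : (2 : F) = 0) : (eW h2).1 = !![0, 1; 1, 0] := rfl

theorem eD_val (k : Fˣ) : (eD k).1 = !![(k : F), 0; 0, (k : F)⁻¹] := rfl

theorem one_val : (1 : Matrix.SpecialLinearGroup (Fin 2) F).1 = 1 := rfl

theorem eU_add (a b : F) : eU (a + b) = eU a * eU b := by
  apply Subtype.ext
  simp only [val_mul, eU_val, eW_val, eD_val, one_val]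
  ext i j
  fin_cases i <;> fin_cases j <;> simp [Matrix.mul_apply, Fin.sum_univ_two, add_comm]

theorem eW_mul_eW (h2 : (2 : F) = 0) : eW h2 * eW h2 = 1 := by
  apply Subtype.ext
  simp only [val_mul, eU_val, eW_val, eD_val, one_val]
  ext i j
  fin_cases i <;> fin_cases j <;> simp [Matrix.mul_apply, Fin.sum_univ_two]

theorem eD_inv (k : Fˣ) : (eD k)⁻¹ = eD k⁻¹ := by
  rw [inv_eq_iff_mul_eq_one]
  apply Subtype.ext
  simp only [val_mul, eU_val, eW_val, eD_val, one_val]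
  ext i j
  fin_cases i <;> fin_cases j <;> simp [Matrix.mul_apply, Fin.sum_univ_two]

theorem eW_conj (h2 : (2 : F) = 0) (k : Fˣ) : eW h2 * eD k * eW h2 = (eD k)⁻¹ := by
  rw [eD_inv]
  apply Subtype.ext
  simp only [val_mul, eU_val, eW_val, eD_val, one_val]
  ext i j
  fin_cases i <;> fin_cases j <;> simp [Matrix.mul_apply, Fin.sum_univ_two]

theorem eD_conj (k : Fˣ) (a : F) : eD k * eU a * (eD k)⁻¹ = eU ((k : F) ^ 2 * a) := by
  rw [eD_inv]
  apply Subtype.ext
  simp only [val_mul, eU_val, eW_val, eD_val, one_val]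
  ext i j
  fin_cases i <;> fin_cases j <;> simp [Matrix.mul_apply, Fin.sum_univ_two]
  ring

theorem eU_inv (a : F) : (eU a)⁻¹ = eU (-a) := by
  rw [inv_eq_iff_mul_eq_one, ← eU_add]
  apply Subtype.ext
  simp only [eU_val, one_val]
  ext i j
  fin_cases i <;> fin_cases j <;> simp

theorem eKey (h2 : (2 : F) = 0) (k : Fˣ) : eW h2 * eU (k : F) * eW h2 =
    (eU (k : F)⁻¹)⁻¹ * (eW h2 * eD k) * eU (k : F)⁻¹ := by
  rw [eU_inv]
  apply Subtype.ext
  simp only [val_mul, eU_val, eW_val, eD_val, one_val]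
  have hk := k.ne_zero
  ext i j
  fin_cases i <;> fin_cases j <;> simp [Matrix.mul_apply, Fin.sum_univ_two]
  linear_combination h2

/-- The rank one data of `PSL(2, F)` in characteristic two. -/
def data (h2 : (2 : F) = 0) : Data (Matrix.ProjectiveSpecialLinearGroup (Fin 2) F) F where
  z b := QuotientGroup.mk' _ (eU b)
  w := QuotientGroup.mk' _ (eW h2)
  T d := ∃ k : Fˣ, d = QuotientGroup.mk' _ (eD k)
  two := h2
  z_add a b := by rw [← map_mul, eU_add]
  w_mul_w := by rw [← map_mul, eW_mul_eW, map_one]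
  one_mem := ⟨1, by
    have : eD (1 : Fˣ) = 1 := by
      apply Subtype.ext
      simp only [eD_val, one_val]
      ext i j
      fin_cases i <;> fin_cases j <;> simp
    rw [this, map_one]⟩
  w_conj := by
    rintro _ ⟨k, rfl⟩
    rw [← map_mul, ← map_mul, ← map_inv, eW_conj]
  T_conj := by
    rintro _ ⟨k, rfl⟩
    refine ⟨(k : F) ^ 2, pow_ne_zero 2 k.ne_zero, fun a => ?_⟩
    rw [← map_inv, ← map_mul, ← map_mul, eD_conj]
  key := by
    intro μ hμ
    refine ⟨QuotientGroup.mk' _ (eU μ⁻¹), QuotientGroup.mk' _ (eD (Units.mk0 μ hμ)), ⟨_, rfl⟩, ?_, ?_⟩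
    · intro a
      rw [← map_mul, ← map_mul, ← eU_add, ← eU_add, add_comm]
    · have h := eKey h2 (Units.mk0 μ hμ)
      rw [Units.val_mk0] at h
      rw [← map_inv, ← map_mul, ← map_mul, ← map_mul, ← map_mul, ← map_mul, h]
  ne := by
    rintro _ a ⟨k, rfl⟩
    rw [← map_mul, ← map_mul]
    apply two_ne
    simp only [val_mul, eU_val, eW_val, eD_val, one_val]
    simp [Matrix.mul_apply, Fin.sum_univ_two]

theorem not_law_two (h2 : (2 : F) = 0) {b : F} (hb0 : b ≠ 0) (hb1 : b ≠ 1) :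
    ¬ Law (Matrix.ProjectiveSpecialLinearGroup (Fin 2) F) :=
  (data h2).not_law hb0 hb1

end Cfsg.Agent.H483.LawPSLTwo
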