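import Mathlib
import Cfsg.Agent.H483.LawPSLTwo

/-!
# The words `s_n` do not vanish on `PSL(2, q)`, `q ≥ 5` odd

With `y = !![0, 1; -1, 0]`, `a = tr s`, `b = tr (s y)` one has
`a' = 2 + b² d`, `b' = -a b d`, `d' = (b (d + 2))² d`, where `d = a² + b² - 4`. So if `-2` is not a square times `d` at the
start, it never is, and neither `a` nor `b` ever vanishes.
-/

set_option autoImplicit false
set_option linter.unusedSimpArgs false

namespace Cfsg.Agent.H483.LawPSLTwoOdd

open Cfsg.Agent.H483.SeqLaw Cfsg.Agent.H483.LawPSLTwo Matrix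

variable {F : Type*} [Field F]

/-- `y = !![0, 1; -1, 0]`. -/
def eY (F : Type*) [Field F] : Matrix.SpecialLinearGroup (Fin 2) F := ⟨!![0, 1; -1, 0], by simp⟩

theorem eY_val : (eY F).1 = !![0, 1; -1, 0] := rfl

/-- the trace -/
def ta (s : Matrix.SpecialLinearGroup (Fin 2) F) : F := s.1 0 0 + s.1 1 1

/-- the trace of `s y` -/
def tb (s : Matrix.SpecialLinearGroup (Fin 2) F) : F := s.1 1 0 - s.1 0 1

/-- the parameter `d` -/
def td (s : Matrix.SpecialLinearGroup (Fin 2) F) : F := ta s ^ 2 + tb s ^ 2 - 4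

theorem inv_val (s : Matrix.SpecialLinearGroup (Fin 2) F) :
    (s⁻¹).1 = !![s.1 1 1, -s.1 0 1; -s.1 1 0, s.1 0 0] := by
  rw [Matrix.SpecialLinearGroup.coe_inv, Matrix.adjugate_fin_two]

theorem eta_val (s : Matrix.SpecialLinearGroup (Fin 2) F) :
    s.1 = !![s.1 0 0, s.1 0 1; s.1 1 0, s.1 1 1] := Matrix.eta_fin_two s.1

theorem det_val (s : Matrix.SpecialLinearGroup (Fin 2) F) :
    s.1 0 0 * s.1 1 1 - s.1 0 1 * s.1 1 0 = 1 := by
  have h := s.2
  rw [Matrix.det_fin_two] at h
  exact h

theorem stp_val (s : Matrix.SpecialLinearGroup (Fin 2) F) :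
    (stp (eY F) s).1 = (eY F)⁻¹.1 * (s.1 * (eY F).1 * s⁻¹.1) * (eY F)⁻¹.1 * (s⁻¹.1 * (eY F).1 * s.1) := by
  rw [stp_eq]
  simp only [val_mul]

theorem ta_stp (s : Matrix.SpecialLinearGroup (Fin 2) F) :
    ta (stp (eY F) s) = 2 + tb s ^ 2 * td s := by
  have hd := det_val s
  unfold ta
  rw [stp_val, inv_val, inv_val]
  simp only [td, ta, tb]
  rw [eta_val s, eY_val]
  generalize s.1 0 0 = p at *
  generalize s.1 0 1 = q at *
  generalize s.1 1 0 = r at *
  generalize s.1 1 1 = u at *
  simp [Matrix.mul_apply, Fin.sum_univ_two]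
  linear_combination (2 * (p * u - q * r + 1) - 4 * (r - q) ^ 2) * hd

theorem tb_stp (s : Matrix.SpecialLinearGroup (Fin 2) F) :
    tb (stp (eY F) s) = - (ta s * tb s * td s) := by
  have hd := det_val s
  unfold tb
  rw [stp_val, inv_val, inv_val]
  simp only [td, ta, tb]
  rw [eta_val s, eY_val]
  generalize s.1 0 0 = p at *
  generalize s.1 0 1 = q at *
  generalize s.1 1 0 = r at *
  generalize s.1 1 1 = u at *
  simp [Matrix.mul_apply, Fin.sum_univ_two]
  linear_combination (4 * (p + u) * (r - q)) * hd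

theorem td_stp (s : Matrix.SpecialLinearGroup (Fin 2) F) :
    td (stp (eY F) s) = (tb s * (td s + 2)) ^ 2 * td s := by
  have h1 : ta s ^ 2 = td s - tb s ^ 2 + 4 := by unfold td; ring
  have h2 : td (stp (eY F) s) = (2 + tb s ^ 2 * td s) ^ 2 + ta s ^ 2 * tb s ^ 2 * td s ^ 2 - 4 := by
    rw [td, ta_stp, tb_stp]; ring
  rw [h2, h1]; ring

/-- the invariant condition -/
structure Inv (s : Matrix.SpecialLinearGroup (Fin 2) F) : Prop where
  a : ta s ≠ 0
  b : tb s ≠ 0
  d : td s ≠ 0
  sq : ∀ c : F, c ^ 2 * td s ≠ -2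

theorem Inv.stp {s : Matrix.SpecialLinearGroup (Fin 2) F} (h : Inv s) : Inv (stp (eY F) s) where
  a := by
    rw [ta_stp]
    intro h0
    exact h.sq (tb s) (by linear_combination h0)
  b := by
    rw [tb_stp]
    exact neg_ne_zero.2 (mul_ne_zero (mul_ne_zero h.a h.b) h.d)
  d := by
    rw [td_stp]
    refine mul_ne_zero (pow_ne_zero 2 (mul_ne_zero h.b ?_)) h.d
    intro h0
    exact h.sq 1 (by linear_combination h0)
  sq c := by
    rw [td_stp, ← mul_assoc, ← mul_pow]
    exact h.sq _

theorem Inv.sn {s : Matrix.SpecialLinearGroup (Fin 2) F} (h : Inv s) (n : ℕ) :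
    Inv (sn s (eY F) n) := by
  induction n with
  | zero => exact h
  | succ n ih => exact ih.stp

theorem not_law_of_inv {s : Matrix.SpecialLinearGroup (Fin 2) F} (h : Inv s) :
    ¬ Law (Matrix.ProjectiveSpecialLinearGroup (Fin 2) F) := by
  apply not_law_of (x := QuotientGroup.mk' _ s) (y := QuotientGroup.mk' _ (eY F))
  intro n hn
  rw [← map_sn] at hn
  have h1 := (QuotientGroup.eq_one_iff _).1 hn
  rw [Matrix.SpecialLinearGroup.mem_center_iff] at h1
  obtain ⟨r, -, hr⟩ := h1
  apply (h.sn n).b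
  unfold tb
  rw [← hr]
  simp

/-- lower triangular elements -/
def eL (p : Fˣ) (r : F) : Matrix.SpecialLinearGroup (Fin 2) F :=
  ⟨!![(p : F), 0; r, (p : F)⁻¹], by simp⟩

theorem ta_eL (p : Fˣ) (r : F) : ta (eL p r) = p + (p : F)⁻¹ := rfl

theorem tb_eL (p : Fˣ) (r : F) : tb (eL p r) = r := by
  show r - 0 = r
  ring

theorem td_eL (p : Fˣ) (r : F) : td (eL p r) = (p - (p : F)⁻¹) ^ 2 + r ^ 2 := by
  rw [td, ta_eL, tb_eL]
  have := p.ne_zero
  field_simp
  ring

theorem exists_unit [Fintype F] (h : 7 ≤ Fintype.card F) : ∃ p : F, p ≠ 0 ∧ p ^ 4 ≠ 1 := by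
  classical
  by_contra hcon
  push Not at hcon
  have h1 : (Finset.univ : Finset F) ⊆ insert 0 (Polynomial.nthRootsFinset 4 (1 : F)) := by
    intro x _
    rw [Finset.mem_insert]
    by_cases hx : x = 0
    · exact Or.inl hx
    · right
      rw [Polynomial.mem_nthRootsFinset (by norm_num)]
      exact hcon x hx
  have h2 := Finset.card_le_card h1
  rw [Finset.card_univ] at h2
  have h3 := Finset.card_insert_le (0 : F) (Polynomial.nthRootsFinset 4 (1 : F))
  have h4 : (Polynomial.nthRootsFinset 4 (1 : F)).card ≤ 4 := by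
    rw [Polynomial.nthRootsFinset_def]
    exact (Multiset.toFinset_card_le _).trans (Polynomial.card_nthRoots 4 (1 : F))
  omega

theorem exists_sq_add_sq [Fintype F] (hodd : Fintype.card F % 2 = 1) (x : F) :
    ∃ a b : F, a ^ 2 + b ^ 2 = x := by
  obtain ⟨a, b, hab⟩ := FiniteField.exists_root_sum_quadratic (R := F) (f := Polynomial.X ^ 2)
    (g := Polynomial.X ^ 2 - Polynomial.C x) (Polynomial.degree_X_pow 2)
    (Polynomial.degree_X_pow_sub_C (by decide) _) hodd
  refine ⟨a, b, ?_⟩
  simp only [Polynomial.eval_pow, Polynomial.eval_X, Polynomial.eval_sub, Polynomial.eval_C] at hab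
  linear_combination hab

/-- The words `s_n` do not vanish identically on `PSL(2, q)`, `q ≥ 5` odd. -/
theorem not_law_odd [Fintype F] (hodd : Fintype.card F % 2 = 1) (h5 : 5 ≤ Fintype.card F) :
    ¬ Law (Matrix.ProjectiveSpecialLinearGroup (Fin 2) F) := by
  have h2 : (2 : F) ≠ 0 := by
    intro h
    have : CharP F 2 := CharTwo.of_one_ne_zero_of_two_eq_zero one_ne_zero h
    have h3 := (FiniteField.even_card_iff_char_two (F := F)).1 (ringChar.eq F 2)
    omega
  by_cases hsq : IsSquare (-2 : F)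
  · obtain ⟨g, hg⟩ := hsq
    -- a non-square as a sum of two squares
    have hchar : ringChar F ≠ 2 := by
      intro h
      apply h2
      have := ringChar.Nat.cast_ringChar (R := F)
      rw [h] at this
      exact_mod_cast this
    obtain ⟨n, hn⟩ := FiniteField.exists_nonsquare hchar
    obtain ⟨x, y, hxy⟩ := exists_sq_add_sq hodd n
    have hx : x ≠ 0 := by
      rintro rfl
      exact hn ⟨y, by rw [← hxy]; ring⟩
    have hy : y ≠ 0 := by
      rintro rfl
      exact hn ⟨x, by rw [← hxy]; ring⟩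
    have h7 : 7 ≤ Fintype.card F := by
      by_contra hlt
      have h55 : Fintype.card F = 5 := by omega
      have h50 : (5 : F) = 0 := by
        have := FiniteField.cast_card_eq_zero F
        rw [h55] at this
        exact_mod_cast this
      have hg0 : g ≠ 0 := by
        rintro rfl
        apply h2
        linear_combination -hg
      have hg4 : g ^ 4 = 1 := by
        have := FiniteField.pow_card_sub_one_eq_one g hg0
        rwa [h55] at this
      have h1 : (1 : F) = 0 := by
        have h4 : g ^ 4 = 4 := by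
          have : g ^ 4 = (g * g) ^ 2 := by ring
          rw [this, ← hg]; ring
        have h3 : (3 : F) = 0 := by linear_combination h4.symm.trans hg4
        linear_combination 2 * h3 - h50
      exact one_ne_zero h1
    obtain ⟨p, hp0, hp4⟩ := exists_unit h7
    set e : F := p - p⁻¹ with he
    have he0 : e ≠ 0 := by
      intro h
      apply hp4
      have h1 : p * p = 1 := by
        have : p * (p - p⁻¹) = 0 := by rw [← he, h, mul_zero]
        rw [mul_sub, mul_inv_cancel₀ hp0] at this
        linear_combination this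
      have : p ^ 4 = (p * p) ^ 2 := by ring
      rw [this, h1, one_pow]
    have ha0 : p + p⁻¹ ≠ 0 := by
      intro h
      apply hp4
      have h1 : p * p = -1 := by
        have : p * (p + p⁻¹) = 0 := by rw [h, mul_zero]
        rw [mul_add, mul_inv_cancel₀ hp0] at this
        linear_combination this
      have : p ^ 4 = (p * p) ^ 2 := by ring
      rw [this, h1]; ring
    have hd : td (eL (Units.mk0 p hp0) (e * y / x)) = (e / x) ^ 2 * n := by
      rw [td_eL, Units.val_mk0, ← he, ← hxy]
      field_simp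
    apply not_law_of_inv (s := eL (Units.mk0 p hp0) (e * y / x))
    refine ⟨?_, ?_, ?_, ?_⟩
    · rw [ta_eL]; exact ha0
    · rw [tb_eL]; exact div_ne_zero (mul_ne_zero he0 hy) hx
    · rw [hd]
      refine mul_ne_zero (pow_ne_zero 2 (div_ne_zero he0 hx)) ?_
      rintro rfl
      exact hn ⟨0, by simp⟩
    · intro c hc
      rw [hd] at hc
      have hc0 : c ≠ 0 := by
        rintro rfl
        apply h2
        linear_combination hc
      have hex : e / x ≠ 0 := div_ne_zero he0 hx
      apply hn
      refine ⟨g / (c * (e / x)), ?_⟩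
      have hne : c * (e / x) ≠ 0 := mul_ne_zero hc0 hex
      rw [div_mul_div_comm, ← hg, eq_div_iff (mul_ne_zero hne hne), ← hc]
      ring
  · apply not_law_of_inv (s := eL 1 1)
    have hd : td (eL (1 : Fˣ) (1 : F)) = 1 := by
      rw [td_eL]; simp
    refine ⟨?_, ?_, ?_, ?_⟩
    · rw [ta_eL]
      intro h
      apply h2
      rw [Units.val_one, inv_one] at h
      linear_combination h
    · rw [tb_eL]; exact one_ne_zero
    · rw [hd]; exact one_ne_zero
    · intro c hc
      rw [hd] at hc
      exact hsq ⟨c, by rw [← hc]; ring⟩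

end Cfsg.Agent.H483.LawPSLTwoOdd
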