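import Mathlib
import Cfsg.Prelude.Def_Sz
import Cfsg.Agent.LieRecognition.SzMatrix
import Cfsg.Agent.H483.RankOneTwo

/-!
# The words `s_n` do not vanish on Suzuki groups
-/

set_option autoImplicit false

namespace Cfsg.Agent.H483.LawSz

open Cfsg.Agent.H483.SeqLaw Cfsg.Agent.H483.RankOneTwo Cfsg.Agent.LieRecognition.SzMatrix

variable {F : Type*} [Field F] {θ : F →+* F} {e : ℕ}

/-- the relation `w u(0,1) w = u(1,0)⁻¹ w u(1,0)` -/
theorem relation (H : Good F θ e) : H.w * H.u 0 1 * H.w = (H.u 1 0)⁻¹ * H.w * H.u 1 0 := by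
  rw [H.u_inv]
  apply Subtype.ext
  apply Units.ext
  have h0 := H.two
  show (W F).1 * (H.U 0 1).1 * (W F).1 = (H.U 1 (0 + 1 * θ 1)).1 * (W F).1 * (H.U 1 0).1
  rw [W_val, H.U_val, H.U_val, H.U_val, Umat_def, Umat_def, Umat_def]
  ext i j
  fin_cases i <;> fin_cases j <;>
    simp [J, Matrix.mul_apply, Fin.sum_univ_four] <;>
    first
    | linear_combination h0
    | linear_combination (-1 : F) * h0
    | linear_combination (-2 : F) * h0
    | linear_combination (-3 : F) * h0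

theorem u_comm (H : Good F θ e) (a b c : F) : H.u a b * H.u 0 c = H.u 0 c * H.u a b := by
  rw [H.u_mul, H.u_mul, map_zero]
  congr 1 <;> ring

theorem d_conj (H : Good F θ e) (k : Fˣ) (a b : F) :
    H.d k * H.u a b * (H.d k)⁻¹ = H.u (a * k ^ 2 * (θ k)⁻¹) (b * θ k) := by
  rw [H.d_mul_u]; group

theorem w_conj (H : Good F θ e) (k : Fˣ) : H.w * H.d k * H.w = (H.d k)⁻¹ := by
  rw [H.w_mul_d, mul_assoc, H.w_mul_w, mul_one, H.d_inv]

/-- The rank one data of the Suzuki group. -/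
def data [Finite F] (H : Good F θ e) : Data ↥(Cfsg.Lie.Sz F e) F where
  z b := H.u 0 b
  w := H.w
  T d := ∃ k : Fˣ, d = H.d k
  two := H.two
  z_add a b := by rw [H.u_mul]; congr 1 <;> simp
  w_mul_w := H.w_mul_w
  one_mem := ⟨1, H.d_one.symm⟩
  w_conj := by
    rintro _ ⟨k, rfl⟩
    exact w_conj H k
  T_conj := by
    rintro _ ⟨k, rfl⟩
    refine ⟨θ k, theta_ne_zero θ k, fun a => ?_⟩
    rw [d_conj]
    congr 1 <;> ring
  key := by
    intro μ hμ
    obtain ⟨κ, hκ⟩ := (Finite.injective_iff_surjective.1 θ.injective) μ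
    have hκ0 : κ ≠ 0 := by
      rintro rfl
      rw [map_zero] at hκ
      exact hμ hκ.symm
    set k : Fˣ := Units.mk0 κ hκ0 with hk
    have hθk : θ (k : F) = μ := hκ
    have hz : H.u 0 μ = H.d k * H.u 0 1 * (H.d k)⁻¹ := by
      rw [d_conj, hθk]
      congr 1 <;> ring
    refine ⟨H.d k⁻¹ * H.u 1 0 * (H.d k⁻¹)⁻¹, H.d (k * k), ⟨k * k, rfl⟩, ?_, ?_⟩
    · intro a
      rw [d_conj]
      exact u_comm H _ _ a
    · have h1 : H.w * H.d k = (H.d k)⁻¹ * H.w := by rw [H.w_mul_d, H.d_inv]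
      have h2 : (H.d k)⁻¹ * H.w = H.w * H.d k := h1.symm
      rw [hz, ← H.d_inv, ← H.d_mul]
      calc H.w * (H.d k * H.u 0 1 * (H.d k)⁻¹) * H.w
          = (H.w * H.d k) * H.u 0 1 * ((H.d k)⁻¹ * H.w) := by group
        _ = ((H.d k)⁻¹ * H.w) * H.u 0 1 * (H.w * H.d k) := by rw [h1]
        _ = (H.d k)⁻¹ * (H.w * H.u 0 1 * H.w) * H.d k := by group
        _ = (H.d k)⁻¹ * ((H.u 1 0)⁻¹ * H.w * H.u 1 0) * H.d k := by rw [relation]
        _ = ((H.d k)⁻¹ * H.u 1 0 * ((H.d k)⁻¹)⁻¹)⁻¹ * (((H.d k)⁻¹ * H.w) * H.d k) *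
              ((H.d k)⁻¹ * H.u 1 0 * ((H.d k)⁻¹)⁻¹) := by group
        _ = _ := by rw [h2, mul_assoc H.w]
  ne := by
    rintro _ a ⟨k, rfl⟩ h
    apply H.w_not_mem_borel
    have h1 : H.w = (H.u 0 a)⁻¹ * (H.d k)⁻¹ := by
      calc H.w = (H.w * H.d k * H.u 0 a) * (H.u 0 a)⁻¹ * (H.d k)⁻¹ := by group
        _ = _ := by rw [h, one_mul]
    rw [h1]
    exact mul_mem (inv_mem (H.u_mem_borel 0 a)) (inv_mem (H.d_mem_borel k))

/-- The words `s_n` do not vanish identically on the Suzuki group of a field with more than two elements. -/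
theorem not_law [Finite F] (H : Good F θ e) {b : F} (hb0 : b ≠ 0) (hb1 : b ≠ 1) :
    ¬ Law ↥(Cfsg.Lie.Sz F e) :=
  (data H).not_law hb0 hb1

theorem exists_ne (F : Type*) [Field F] [Fintype F] (h : 2 < Fintype.card F) :
    ∃ b : F, b ≠ 0 ∧ b ≠ 1 := by
  classical
  by_contra hcon
  push Not at hcon
  have h1 : (Finset.univ : Finset F) ⊆ {0, 1} := by
    intro x _
    rw [Finset.mem_insert, Finset.mem_singleton]
    by_cases hx : x = 0
    · exact Or.inl hx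
    · exact Or.inr (hcon x hx)
  have h2 := Finset.card_le_card h1
  have h3 : ({0, 1} : Finset F).card ≤ 2 := Finset.card_le_two
  rw [Finset.card_univ] at h2
  omega

theorem not_law_sz {F : Type*} [Field F] [Fintype F] {m : ℕ} (hm : 1 ≤ m)
    (hF : Fintype.card F = 2 ^ (2 * m + 1)) : ¬ Law ↥(Cfsg.Lie.Sz F (2 ^ (m + 1))) := by
  have h2 : 2 < Fintype.card F := by
    rw [hF]
    calc 2 < 2 ^ 3 := by norm_num
      _ ≤ 2 ^ (2 * m + 1) := Nat.pow_le_pow_right (by norm_num) (by omega)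
  obtain ⟨b, hb0, hb1⟩ := exists_ne F h2
  exact not_law (good hF) hb0 hb1

end Cfsg.Agent.H483.LawSz
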