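import Mathlib
import Cfsg.Agent.H483.SeqLaw
import Cfsg.Agent.H483.LawSz
import Cfsg.Agent.H483.LawPSLTwo
import Cfsg.Agent.H483.LawPSLTwoOdd
import Cfsg.Agent.H483.LawPSLThree
import Cfsg.Agent.Classification.MinSimpleMain

/-!
# A finite group satisfying one of the laws `s_n` is solvable (from the minimal simple groups)
-/

set_option autoImplicit false

namespace Cfsg.Agent.H483.LawMain

open Cfsg.Agent.H483.SeqLaw Cfsg.Agent.Classification

universe u

theorem two_eq_zero_of_card {F : Type*} [Field F] [Fintype F] {n : ℕ} (hF : Fintype.card F = 2 ^ n) :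
    (2 : F) = 0 := by
  have h1 : ((Fintype.card F : ℕ) : F) = 0 := FiniteField.cast_card_eq_zero F
  rw [hF] at h1
  push_cast at h1
  by_contra h
  exact pow_ne_zero n h h1

theorem not_law_of_concl {G : Type u} [Group G] (h : MinSimpleMain.Concl G) : ¬ Law G := by
  rcases h with ⟨p, hp, F, _, _, hF, ⟨e⟩⟩ | ⟨p, hp, hp2, F, _, _, hF, ⟨e⟩⟩ | ⟨p, hp, h5, F, _, _, hF, ⟨e⟩⟩ |
      ⟨F, _, _, hF, ⟨e⟩⟩ | ⟨F, _, _, m, hm, -, hF, ⟨e⟩⟩
  · intro hL
    have hL' := hL.of_surjective (f := e.toMonoidHom) e.surjective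
    have h2 : 2 < Fintype.card F := by
      rw [hF]
      calc 2 < 2 ^ 2 := by norm_num
        _ ≤ 2 ^ p := Nat.pow_le_pow_right (by norm_num) hp.two_le
    obtain ⟨b, hb0, hb1⟩ := LawSz.exists_ne F h2
    exact LawPSLTwo.not_law_two (two_eq_zero_of_card hF) hb0 hb1 hL'
  · intro hL
    have hL' := hL.of_surjective (f := e.toMonoidHom) e.surjective
    refine LawPSLTwoOdd.not_law_odd (F := F) ?_ ?_ hL'
    · rw [hF]
      have : Odd (3 ^ p) := Odd.pow (by decide)
      exact Nat.odd_iff.1 this
    · rw [hF]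
      calc 5 ≤ 3 ^ 2 := by norm_num
        _ ≤ 3 ^ p := Nat.pow_le_pow_right (by norm_num) hp.two_le
  · intro hL
    have hL' := hL.of_surjective (f := e.toMonoidHom) e.surjective
    have h55 : 5 ≤ p := by omega
    refine LawPSLTwoOdd.not_law_odd (F := F) ?_ ?_ hL'
    · rw [hF]
      exact Nat.odd_iff.1 (hp.odd_of_ne_two (by omega))
    · rw [hF]; exact h55
  · intro hL
    exact LawPSLThree.not_law hF (hL.of_surjective (f := e.toMonoidHom) e.surjective)
  · intro hL
    exact LawSz.not_law_sz hm hF (hL.of_surjective (f := e.toMonoidHom) e.surjective)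

/-- The main theorem, with the list of the minimal simple groups as hypothesis. -/
theorem solvable_iff_law (hcl : ∀ (H : Type u) [Group H] [Finite H], Cfsg.IsMinimalSimple H →
    MinSimpleMain.Concl H) {G : Type u} [Group G] [Finite G] : Group.IsSolvable G ↔ Law G := by
  refine ⟨law_of_isSolvable, fun h => ?_⟩
  exact solvable_of_property (fun H _ => Law H)
    (fun H _ K hH => hH.of_injective (f := K.subtype) K.subtype_injective)
    (fun H _ N _ hH => hH.of_surjective (QuotientGroup.mk'_surjective N))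
    (fun H _ _ hH => not_law_of_concl (hcl H hH)) _ G rfl h

end Cfsg.Agent.H483.LawMain
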